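import Cfsg.Agent.Lib.RankThreeFrob.Kernel
import Mathlib.Data.ZMod.Basic
import Mathlib.Algebra.BigOperators.Group.Finset.Basic

/-!
# Fixed points of subgroups of order prime to the kernel
-/

set_option autoImplicit false

namespace Cfsg.Agent.RankThreeFrob

open MulAction Subgroup

variable {G X : Type*} [Group G] [MulAction G X]

/-- The length of the Frobenius suborbit. -/
noncomputable def kk (G : Type*) {X : Type*} [Group G] [MulAction G X] (A B : X) : ℕ :=
  (nbr G A B A).ncard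

/-- The order of the two point stabiliser. -/
noncomputable def cc (G : Type*) {X : Type*} [Group G] [MulAction G X] (A B : X) : ℕ :=
  Nat.card (two G A B)

theorem even_ncard_of_involution {α : Type*} {s : Set α} (hs : s.Finite) (f : α → α)
    (h1 : ∀ a ∈ s, f a ∈ s) (h2 : ∀ a ∈ s, f (f a) = a) (h3 : ∀ a ∈ s, f a ≠ a) :
    Even s.ncard := by
  classical
  have h := Finset.sum_involution (s := hs.toFinset) (f := fun _ => (1 : ZMod 2))
    (fun a _ => f a) (fun _ _ => by decide) (fun a ha _ => h3 a (hs.mem_toFinset.1 ha))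
    (fun a ha => hs.mem_toFinset.2 (h1 a (hs.mem_toFinset.1 ha)))
    (fun a ha => h2 a (hs.mem_toFinset.1 ha))
  rw [Finset.sum_const, nsmul_one, ZMod.natCast_eq_zero_iff_even] at h
  rwa [Set.ncard_eq_toFinset_card s hs]

variable {A B P Q R D : X}

theorem two_comm {P Q : X} : two G P Q = two G Q P := inf_comm _ _

theorem card_map_conj (u : G) (Y : Subgroup G) :
    Nat.card (Y.map (MulAut.conj u).toMonoidHom) = Nat.card Y :=
  Nat.card_congr (Y.equivMapOfInjective _ (MulAut.conj u).injective).toEquiv.symm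

namespace Setup

variable [Finite G] [FaithfulSMul G X] (S : Setup G A B)
include S

theorem finite_X : Finite X := by
  haveI := S.trans
  exact Finite.of_surjective (fun g : G => g • A) (MulAction.surjective_smul G A)

theorem orderOf_dvd_k {g : G} (hg : IsKer G A B P g) : orderOf g ∣ kk G A B := by
  obtain ⟨u, rfl⟩ := S.exists_map P
  have hg' : IsKer G A B A (u⁻¹ * g * u) := by
    have := (isKer_smul_iff (A := A) (B := B) (P := u • A) u⁻¹ g).2 hg
    rwa [inv_smul_smul, inv_inv] at this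
  have h1 : orderOf (u⁻¹ * g * u) = orderOf g := by
    have : u⁻¹ * g * u = MulAut.conj u⁻¹ g := by simp [MulAut.conj_apply]
    rw [this, MulEquiv.orderOf_eq]
  rw [← h1, kk, ← S.card_ker]
  exact Subgroup.orderOf_dvd_natCard _ (S.mem_ker.2 hg')

theorem orderOf_dvd_c {g : G} (hP : g • P = P) (hQ : g • Q = Q) (h : Adj G A B P Q) :
    orderOf g ∣ cc G A B := by
  obtain ⟨u, rfl, rfl⟩ := h
  have h1 : orderOf (u⁻¹ * g * u) = orderOf g := by
    have : u⁻¹ * g * u = MulAut.conj u⁻¹ g := by simp [MulAut.conj_apply]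
    rw [this, MulEquiv.orderOf_eq]
  rw [← h1, cc]
  refine Subgroup.orderOf_dvd_natCard _ (mem_two.2 ⟨?_, ?_⟩)
  · rw [mul_smul, mul_smul, hP, inv_smul_smul]
  · rw [mul_smul, mul_smul, hQ, inv_smul_smul]

theorem fix_nbr_of_not_isKer {g : G} (hP : g • P = P) (h : ¬ IsKer G A B P g) :
    ∃ Q, Adj G A B P Q ∧ g • Q = Q := by
  by_contra hne
  push Not at hne
  exact h ⟨hP, Or.inr hne⟩

theorem isKer_of_coprime {g : G} (hP : g • P = P) (hco : Nat.Coprime (orderOf g) (cc G A B)) :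
    IsKer G A B P g := by
  by_contra h
  obtain ⟨Q, hPQ, hQ⟩ := S.fix_nbr_of_not_isKer hP h
  have h1 : orderOf g = 1 := Nat.eq_one_of_dvd_coprimes hco dvd_rfl (S.orderOf_dvd_c hP hQ hPQ)
  exact h ⟨hP, Or.inl (orderOf_eq_one_iff.1 h1)⟩

theorem eq_one_of_isKer_fix_nbr {g : G} (h : IsKer G A B P g) (hQ : g • Q = Q)
    (hPQ : Adj G A B P Q) : g = 1 :=
  h.2.resolve_right fun h' => h' Q hPQ hQ

theorem ker_of_orderOf_dvd {g : G} (hP : g • P = P) (h : orderOf g ∣ kk G A B) :
    IsKer G A B P g :=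
  S.isKer_of_coprime hP (Nat.Coprime.coprime_dvd_left h S.coprime_k_c)

/-- A subgroup `Y` of the stabiliser of `A` has at most one non-regular orbit on the neighbours,
and it contains all points fixed by elements outside the kernel. -/
theorem exists_orbit {Y : Subgroup G} (hY : Y ≤ stabilizer G A) :
    ∃ Q, Adj G A B A Q ∧
      Nat.card Y = Nat.card (Y ⊓ ker G A B : Subgroup G) *
        Nat.card (Y ⊓ stabilizer G Q : Subgroup G) ∧
      ∀ y ∈ Y, y ∉ ker G A B → ∀ R, Adj G A B A R → y • R = R → ∃ u ∈ Y, u • Q = R := by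
  classical
  letI := Fintype.ofFinite G
  haveI := S.finite_X
  letI := Fintype.ofFinite X
  by_cases hYK : Y ≤ ker G A B
  · refine ⟨B, adj_base, ?_, fun y hy hy' => absurd (hYK hy) hy'⟩
    have h1 : Y ⊓ stabilizer G B = ⊥ := (Subgroup.eq_bot_iff_forall _).2 fun y hy =>
      S.ker_inf_two (hYK hy.1) hy.2
    rw [h1, inf_eq_left.2 hYK, Subgroup.card_bot, mul_one]
  obtain ⟨y0, hy0, hy0K⟩ := SetLike.not_le_iff_exists.1 hYK
  have hmem : ∀ y ∈ Y, y ∉ ker G A B → ∃ Q, Adj G A B A Q ∧ y • Q = Q := fun y hy hyK =>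
    S.fix_nbr_of_not_isKer (hY hy) fun h => hyK (S.mem_ker.2 h)
  let orb : X → Finset X := fun Q => (Finset.univ : Finset X).filter fun R => ∃ u ∈ Y, u • Q = R
  let pts : X → Finset G := fun R =>
    (Finset.univ : Finset G).filter fun y => y ∈ Y ∧ y • R = R ∧ y ≠ 1
  let T : Finset G := (Finset.univ : Finset G).filter fun y => y ∈ Y ∧ y ∉ ker G A B
  let F : X → Finset G := fun Q => (orb Q).biUnion pts
  have horb : ∀ {Q R}, Adj G A B A Q → R ∈ orb Q → Adj G A B A R := by
    intro Q R hQ hR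
    obtain ⟨u, hu, rfl⟩ := (Finset.mem_filter.1 hR).2
    have := adj_smul u hQ
    rwa [mem_stabilizer_iff.1 (hY hu)] at this
  have hsub : ∀ {Q}, Adj G A B A Q → F Q ⊆ T := by
    intro Q hQ y hy
    obtain ⟨R, hR, hy⟩ := Finset.mem_biUnion.1 hy
    obtain ⟨-, hyY, hyR, hy1⟩ := Finset.mem_filter.1 hy
    exact Finset.mem_filter.2 ⟨Finset.mem_univ _, hyY, fun hK =>
      hy1 (S.eq_one_of_isKer_fix_nbr (S.mem_ker.1 hK) hyR (horb hQ hR))⟩
  have hN : ∀ W : Subgroup G,
      ((Finset.univ : Finset G).filter fun y => y ∈ W).card = Nat.card W := fun W => by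
    rw [Nat.card_eq_fintype_card, Fintype.card_subtype]
  have hT : T.card + Nat.card (Y ⊓ ker G A B : Subgroup G) = Nat.card Y := by
    rw [← hN, ← hN, ← Finset.card_union_of_disjoint]
    · refine congrArg Finset.card (Finset.ext fun y => ?_)
      simp only [T, Finset.mem_union, Finset.mem_filter, Finset.mem_univ, true_and, mem_inf]
      tauto
    · rw [Finset.disjoint_left]
      intro y h1 h2
      exact (Finset.mem_filter.1 h1).2.2 (Finset.mem_filter.1 h2).2.2
  have hos : ∀ Q, (orb Q).card * Nat.card (Y ⊓ stabilizer G Q : Subgroup G) = Nat.card Y := by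
    intro Q
    have h1 : (orb Q).card = (MulAction.orbit Y Q).ncard := by
      rw [← Set.ncard_coe_finset]
      congr 1
      ext R
      simp only [orb, Finset.coe_filter, Finset.mem_univ, true_and, Set.mem_setOf_eq,
        MulAction.mem_orbit_iff]
      exact ⟨fun ⟨u, hu, e⟩ => ⟨⟨u, hu⟩, e⟩, fun ⟨u, e⟩ => ⟨u, u.2, e⟩⟩
    have h2 : Nat.card (Y ⊓ stabilizer G Q : Subgroup G) = Nat.card (MulAction.stabilizer Y Q) :=
      Nat.card_congr
        { toFun := fun y => ⟨⟨y, y.2.1⟩, y.2.2⟩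
          invFun := fun y => ⟨y.1, y.1.2, y.2⟩
          left_inv := fun y => rfl
          right_inv := fun y => rfl }
    rw [h1, h2, ← MulAction.index_stabilizer, Subgroup.index_mul_card]
  have hF : ∀ {Q}, Adj G A B A Q → (F Q).card + (orb Q).card = Nat.card Y := by
    intro Q hQ
    have hd : Set.PairwiseDisjoint (orb Q : Set X) pts := by
      intro R hR R' hR' hne
      rw [Function.onFun, Finset.disjoint_left]
      intro y h1 h2
      obtain ⟨-, hyY, hyR, hy1⟩ := Finset.mem_filter.1 h1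
      exact hne (S.fix_nbr_unique hy1 (hY hyY) hyR (Finset.mem_filter.1 h2).2.2.1 (horb hQ hR)
        (horb hQ hR'))
    have hcard : ∀ R ∈ orb Q,
        (pts R).card + 1 = Nat.card (Y ⊓ stabilizer G Q : Subgroup G) := by
      intro R hR
      obtain ⟨u, hu, rfl⟩ := (Finset.mem_filter.1 hR).2
      have h1 : pts (u • Q) = ((Finset.univ : Finset G).filter fun y => y ∈
          Y ⊓ stabilizer G (u • Q)).erase 1 := by
        ext y
        simp only [pts, Finset.mem_erase, Finset.mem_filter, Finset.mem_univ, true_and, mem_inf,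
          mem_stabilizer_iff]
        tauto
      rw [h1, Finset.card_erase_add_one (by simp), hN]
      refine Nat.eq_of_mul_eq_mul_left (Finset.card_pos.2 ⟨u • Q, hR⟩) ?_
      have : orb (u • Q) = orb Q := by
        ext R
        simp only [orb, Finset.mem_filter, Finset.mem_univ, true_and]
        constructor
        · rintro ⟨v, hv, rfl⟩; exact ⟨v * u, mul_mem hv hu, mul_smul _ _ _⟩
        · rintro ⟨v, hv, rfl⟩
          exact ⟨v * u⁻¹, mul_mem hv (inv_mem hu), by rw [mul_smul, inv_smul_smul]⟩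
      rw [hos Q]
      conv_lhs => rw [← this]
      exact hos _
    rw [show F Q = (orb Q).biUnion pts from rfl, Finset.card_biUnion hd,
      Finset.card_eq_sum_ones (orb Q), ← Finset.sum_add_distrib, Finset.sum_congr rfl hcard,
      Finset.sum_const, smul_eq_mul, hos]
  have hhalf : ∀ y ∈ Y, y ∉ ker G A B → ∀ Q, y • Q = Q → 2 * (orb Q).card ≤ Nat.card Y := by
    intro y hy hyK Q hQ
    rw [← hos Q, mul_comm]
    refine Nat.mul_le_mul_left _ ?_
    refine (Subgroup.one_lt_card_iff_ne_bot _).2 fun h => hyK ?_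
    rw [(Subgroup.eq_bot_iff_forall _).1 h y ⟨hy, hQ⟩]
    exact one_mem _
  obtain ⟨Q, hQ, hQ0⟩ := hmem y0 hy0 hy0K
  have hKpos : 0 < Nat.card (Y ⊓ ker G A B : Subgroup G) := Nat.card_pos
  have hall : ∀ y ∈ Y, y ∉ ker G A B → ∀ R, Adj G A B A R → y • R = R → R ∈ orb Q := by
    intro y hy hyK R hR hyR
    by_contra hne
    have hdis : Disjoint (F Q) (F R) := by
      rw [Finset.disjoint_left]
      intro z h1 h2
      obtain ⟨R1, hR1, h1⟩ := Finset.mem_biUnion.1 h1
      obtain ⟨R2, hR2, h2⟩ := Finset.mem_biUnion.1 h2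
      obtain ⟨-, hzY, hz1, hz⟩ := Finset.mem_filter.1 h1
      have e := S.fix_nbr_unique hz (hY hzY) hz1 (Finset.mem_filter.1 h2).2.2.1 (horb hQ hR1)
        (horb hR hR2)
      subst e
      obtain ⟨u, hu, e1⟩ := (Finset.mem_filter.1 hR1).2
      obtain ⟨v, hv, e2⟩ := (Finset.mem_filter.1 hR2).2
      exact hne (Finset.mem_filter.2 ⟨Finset.mem_univ _, v⁻¹ * u, mul_mem (inv_mem hv) hu,
        by rw [mul_smul, e1, ← e2, inv_smul_smul]⟩)
    have h1 : (F Q ∪ F R).card ≤ T.card :=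
      Finset.card_le_card (Finset.union_subset (hsub hQ) (hsub hR))
    rw [Finset.card_union_of_disjoint hdis] at h1
    have := hF hQ; have := hF hR
    have := hhalf y0 hy0 hy0K Q hQ0
    have := hhalf y hy hyK R hyR
    omega
  refine ⟨Q, hQ, ?_, fun y hy hyK R hR hyR =>
    (Finset.mem_filter.1 (hall y hy hyK R hR hyR)).2⟩
  have hTF : T ⊆ F Q := by
    intro y hy
    obtain ⟨-, hyY, hyK⟩ := Finset.mem_filter.1 hy
    obtain ⟨R, hR, hyR⟩ := hmem y hyY hyK
    exact Finset.mem_biUnion.2 ⟨R, hall y hyY hyK R hR hyR,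
      Finset.mem_filter.2 ⟨Finset.mem_univ _, hyY, hyR, fun e => hyK (e ▸ one_mem _)⟩⟩
  have h1 := Finset.card_le_card hTF
  have h2 := Finset.card_le_card (hsub hQ)
  have h3 := hF hQ
  rw [show Nat.card (Y ⊓ ker G A B : Subgroup G) = (orb Q).card by omega, hos]

/-- A subgroup of order prime to `k` fixing `P` fixes a neighbour of `P`. -/
theorem exists_nbr_fix {Y : Subgroup G} (hP : ∀ y ∈ Y, y • P = P)
    (hco : Nat.Coprime (Nat.card Y) (kk G A B)) :
    ∃ Q, Adj G A B P Q ∧ ∀ y ∈ Y, y • Q = Q := by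
  obtain ⟨u, rfl⟩ := S.exists_map P
  set Y' := Y.map (MulAut.conj u⁻¹).toMonoidHom with hY'
  have hle : Y' ≤ stabilizer G A := by
    rintro _ ⟨y, hy, rfl⟩
    rw [MulEquiv.coe_toMonoidHom, MulAut.conj_apply, inv_inv, mem_stabilizer_iff, mul_smul,
      mul_smul, hP y hy, inv_smul_smul]
  obtain ⟨Q, hQ, hcard, -⟩ := S.exists_orbit hle
  have h1 : Nat.card (Y' ⊓ ker G A B : Subgroup G) = 1 := by
    refine Nat.eq_one_of_dvd_coprimes hco ?_ ?_
    · rw [← card_map_conj u⁻¹ Y]
      exact Subgroup.card_dvd_of_le inf_le_left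
    · rw [kk, ← S.card_ker]
      exact Subgroup.card_dvd_of_le inf_le_right
  rw [h1, one_mul] at hcard
  have h2 : Y' ⊓ stabilizer G Q = Y' :=
    Subgroup.eq_of_le_of_card_ge inf_le_left hcard.le
  refine ⟨u • Q, adj_smul u hQ, fun y hy => ?_⟩
  have h3 := (h2.ge ⟨y, hy, rfl⟩).2
  rw [SetLike.mem_coe, MulEquiv.coe_toMonoidHom, MulAut.conj_apply, inv_inv] at h3
  have h4 : (u⁻¹ * y * u) • Q = Q := h3
  rw [mul_smul, mul_smul, inv_smul_eq_iff] at h4
  exact h4

/-- A non-trivial subgroup of order prime to `k` has an even number of fixed points. -/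
theorem even_fix {Y : Subgroup G} (hY : Y ≠ ⊥) (hco : Nat.Coprime (Nat.card Y) (kk G A B)) :
    Even {P : X | ∀ y ∈ Y, y • P = P}.ncard := by
  classical
  haveI := S.finite_X
  obtain ⟨y0, hy0, hy01⟩ := (Subgroup.ne_bot_iff_exists_ne_one.1 hY) |>.elim
    (fun y hy => (⟨y, y.2, fun e => hy (Subtype.ext e)⟩ : ∃ y, y ∈ Y ∧ y ≠ 1))
  have hex : ∀ P : X, ∃ Q, (∀ y ∈ Y, y • P = P) → Adj G A B P Q ∧ ∀ y ∈ Y, y • Q = Q := by
    intro P
    by_cases hP : ∀ y ∈ Y, y • P = P
    · obtain ⟨Q, hQ⟩ := S.exists_nbr_fix hP hco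
      exact ⟨Q, fun _ => hQ⟩
    · exact ⟨P, fun h => absurd h hP⟩
  choose f hf using hex
  refine even_ncard_of_involution (Set.toFinite _) f (fun P hP => (hf P hP).2) (fun P hP => ?_)
    fun P hP => (S.adj_ne (hf P hP).1).symm
  have h1 := hf P hP
  have h2 := hf (f P) h1.2
  exact (S.fix_nbr_unique hy01 (h1.2 y0 hy0) (h2.2 y0 hy0) (hP y0 hy0) h2.1 (S.adj_symm h1.1))

end Setup

/-- A representative of the far orbit whose stabiliser meets the kernel and the stabiliser of `B`
in a kernel and a complement. -/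
structure Std (G : Type*) {X : Type*} [Group G] [MulAction G X] (A B D : X) : Prop where
  far : D ∈ far G A B
  card : Nat.card (two G A D) = Nat.card (two G A D ⊓ ker G A B : Subgroup G) *
    Nat.card (two G A D ⊓ two G A B : Subgroup G)
  orbit : ∀ y ∈ two G A D, y ∉ ker G A B → ∀ R, Adj G A B A R → y • R = R →
    ∃ u ∈ two G A D, u • B = R

namespace Setup

variable [Finite G] [FaithfulSMul G X] (S : Setup G A B)
include S

theorem exists_std : ∃ D, Std G A B D := by
  obtain ⟨D0, hD0⟩ := S.far_nonempty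
  obtain ⟨Q, hQ, hcard, horb⟩ := S.exists_orbit (Y := two G A D0) inf_le_left
  obtain ⟨h, hh, rfl⟩ := adj_A_iff.1 hQ
  have hhA := mem_stabilizer_iff.1 hh
  have hhA' := mem_stabilizer_iff.1 ((stabilizer G A).inv_mem hh)
  refine ⟨h⁻¹ • D0, mem_far_smul ((stabilizer G A).inv_mem hh) hD0, ?_, ?_⟩
  · let e : G ≃* G := MulAut.conj h
    have hmap : ∀ g : G, g ∈ two G A (h⁻¹ • D0) ↔ h * g * h⁻¹ ∈ two G A D0 := by
      intro g
      rw [mem_two, mem_two, mul_smul, mul_smul, mul_smul, mul_smul, hhA', eq_inv_smul_iff]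
      refine and_congr_left' ⟨fun e => by rw [e, hhA], fun e => ?_⟩
      have := congrArg (h⁻¹ • ·) e
      simpa only [inv_smul_smul, hhA'] using this
    have h1 : Nat.card (two G A (h⁻¹ • D0)) = Nat.card (two G A D0) :=
      Nat.card_congr (e.toEquiv.subtypeEquiv fun g => hmap g)
    have h2 : Nat.card (two G A (h⁻¹ • D0) ⊓ ker G A B : Subgroup G) =
        Nat.card (two G A D0 ⊓ ker G A B : Subgroup G) := by
      refine Nat.card_congr (e.toEquiv.subtypeEquiv fun g => ?_)
      show g ∈ two G A (h⁻¹ • D0) ⊓ ker G A B ↔ h * g * h⁻¹ ∈ two G A D0 ⊓ ker G A B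
      rw [mem_inf, mem_inf, hmap]
      refine and_congr_right fun _ => ⟨fun h' => S.ker_conj h' hh, fun h' => ?_⟩
      have := S.ker_conj h' ((stabilizer G A).inv_mem hh)
      convert this using 1; group
    have h3 : Nat.card (two G A (h⁻¹ • D0) ⊓ two G A B : Subgroup G) =
        Nat.card (two G A D0 ⊓ stabilizer G (h • B) : Subgroup G) := by
      refine Nat.card_congr (e.toEquiv.subtypeEquiv fun g => ?_)
      show g ∈ two G A (h⁻¹ • D0) ⊓ two G A B ↔ h * g * h⁻¹ ∈ two G A D0 ⊓ stabilizer G (h • B)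
      rw [mem_inf, mem_inf, hmap, mem_two (B := B), mem_stabilizer_iff, mul_smul, mul_smul,
        inv_smul_smul, smul_left_cancel_iff]
      exact ⟨fun h' => ⟨h'.1, h'.2.2⟩, fun h' => ⟨h'.1,
        ((hmap g).2 h'.1).1, h'.2⟩⟩
    rw [h1, h2, h3, hcard]
  · intro y hy hyK R hR hyR
    have hy' : h * y * h⁻¹ ∈ two G A D0 := by
      rw [mem_two] at hy ⊢
      refine ⟨?_, ?_⟩
      · rw [mul_smul, mul_smul, hhA', hy.1, hhA]
      · rw [mul_smul, mul_smul, hy.2, smul_inv_smul]
    have hyK' : h * y * h⁻¹ ∉ ker G A B := fun h' => hyK (by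
      have := S.ker_conj h' ((stabilizer G A).inv_mem hh)
      convert this using 1; group)
    have hR' : Adj G A B A (h • R) := by have := adj_smul h hR; rwa [hhA] at this
    obtain ⟨u, hu, e⟩ := horb _ hy' hyK' (h • R) hR'
      (by rw [mul_smul, mul_smul, inv_smul_smul, hyR])
    refine ⟨h⁻¹ * u * h, ?_, by rw [mul_smul, mul_smul, e, inv_smul_smul]⟩
    rw [mem_two] at hu ⊢
    refine ⟨?_, ?_⟩
    · rw [mul_smul, mul_smul, hhA, hu.1, hhA']
    · rw [mul_smul, mul_smul, smul_inv_smul, hu.2]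

/-- Points of the far orbit fixed by a non-trivial element of `C`. -/
theorem fix_far (hD : Std G A B D) {y : G} (hy : y ∈ two G A B) (hy1 : y ≠ 1)
    (hP : P ∈ RankThreeFrob.far G A B) (hyP : y • P = P) : ∃ u ∈ two G A B, u • D = P := by
  obtain ⟨x, hx, rfl⟩ := S.far_orbit hD.far hP
  have hxA := mem_stabilizer_iff.1 hx
  have hxA' := mem_stabilizer_iff.1 ((stabilizer G A).inv_mem hx)
  have h1 : x⁻¹ * y * x ∈ two G A D := by
    rw [mem_two]
    refine ⟨?_, ?_⟩
    · rw [mul_smul, mul_smul, hxA, hy.1, hxA']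
    · rw [mul_smul, mul_smul, hyP, inv_smul_smul]
  have h2 : x⁻¹ * y * x ∉ ker G A B := fun h => hy1 (S.ker_inf_two (by
    have := S.ker_conj h hx
    convert this using 1; group) hy.2)
  obtain ⟨u, hu, e⟩ := hD.orbit _ h1 h2 (x⁻¹ • B)
    (adj_A_iff.2 ⟨x⁻¹, (stabilizer G A).inv_mem hx, rfl⟩)
    (by rw [mul_smul, mul_smul, smul_inv_smul, hy.2])
  refine ⟨x * u, mem_two.2 ⟨?_, ?_⟩, ?_⟩
  · rw [mul_smul, hu.1, hxA]
  · rw [mul_smul, e, smul_inv_smul]
  · rw [mul_smul, hu.2]

end Setup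

end Cfsg.Agent.RankThreeFrob
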