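import Cfsg.Agent.Lib.RankThreeFrob.Setting
import Cfsg.Agent.Lib.Frobenius.FpfAutomorphism
import Cfsg.Agent.S0042

/-!
# The Frobenius kernels
-/

set_option autoImplicit false

namespace Cfsg.Agent.RankThreeFrob

open MulAction Subgroup

variable {G X : Type*} [Group G] [MulAction G X]

/-- `g` lies in the Frobenius kernel of the stabiliser of `P`. -/
def IsKer (G : Type*) {X : Type*} [Group G] [MulAction G X] (A B P : X) (g : G) : Prop :=
  g • P = P ∧ (g = 1 ∨ ∀ Q, Adj G A B P Q → g • Q ≠ Q)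

/-- The Frobenius kernel of the stabiliser of `A`. -/
def ker (G : Type*) {X : Type*} [Group G] [MulAction G X] (A B : X) : Subgroup G :=
  Subgroup.closure {g | IsKer G A B A g}

/-- The stabiliser of `A` and `B`. -/
def two (G : Type*) {X : Type*} [Group G] [MulAction G X] (A B : X) : Subgroup G :=
  stabilizer G A ⊓ stabilizer G B

variable {A B P Q R : X}

theorem mem_two {g : G} : g ∈ two G A B ↔ g • A = A ∧ g • B = B := Iff.rfl

theorem isKer_smul_iff (u g : G) :
    IsKer G A B (u • P) (u * g * u⁻¹) ↔ IsKer G A B P g := by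
  have e : ∀ R : X, (u * g * u⁻¹) • u • R = u • g • R := fun R => by
    rw [← mul_smul, ← mul_smul]; congr 1; group
  simp only [IsKer, e, smul_left_cancel_iff, conj_eq_one_iff]
  refine and_congr_right fun _ => or_congr_right ⟨fun h Q hQ e' => ?_, fun h Q hQ e' => ?_⟩
  · exact h (u • Q) (adj_smul u hQ) (by rw [e, e'])
  · have hQ' := adj_smul u⁻¹ hQ
    rw [inv_smul_smul] at hQ'
    refine h _ hQ' (smul_left_cancel u ?_)
    rw [← e, smul_inv_smul]
    exact e'

namespace Setup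

variable [Finite G] [FaithfulSMul G X] (S : Setup G A B)
include S

/-- A non-identity element fixes at most one neighbour of a point it fixes. -/
theorem fix_nbr_unique {g : G} (hg1 : g ≠ 1) (hP : g • P = P) (hQ : g • Q = Q) (hR : g • R = R)
    (hPQ : Adj G A B P Q) (hPR : Adj G A B P R) : Q = R := by
  obtain ⟨u, rfl, rfl⟩ := hPQ
  have hPR' := adj_smul u⁻¹ hPR
  rw [inv_smul_smul] at hPR'
  obtain ⟨h, hh, hB⟩ := adj_A_iff.1 hPR'
  by_contra hne
  have e : ∀ T : X, g • u • T = u • T → (u⁻¹ * g * u) • T = T := fun T hT => by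
    rw [mul_smul, mul_smul, hT, inv_smul_smul]
  have key := S.frob (u⁻¹ * g * u) (e A hP) h hh (e B hQ) ?_ fun e' => hne ?_
  · exact hg1 (by simpa [mul_eq_one_iff_eq_inv, mul_assoc] using congrArg (fun y => u * y * u⁻¹) key)
  · rw [hB]; exact e _ (by rwa [smul_inv_smul])
  · rw [e'] at hB
    rw [hB, smul_inv_smul]

theorem two_ne_bot : two G A B ≠ ⊥ := by
  obtain ⟨g, h1, h2, h3⟩ := S.fix
  exact fun h => h2 ((Subgroup.eq_bot_iff_forall _).1 h g ⟨h1, h3⟩)

theorem isFrobenius :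
    IsFrobeniusComplement ((two G A B).subgroupOf (stabilizer G A)) := by
  refine ⟨fun h => ?_, fun h => ?_, fun g hg => (Subgroup.eq_bot_iff_forall _).2 fun x hx => ?_⟩
  · obtain ⟨g, h1, h2, h3⟩ := S.fix
    have := (Subgroup.eq_bot_iff_forall _).1 h ⟨g, h1⟩ ⟨h1, h3⟩
    exact h2 (congrArg Subtype.val this)
  · obtain ⟨g, h1, h2, -⟩ := S.fix
    have hall : ∀ u ∈ stabilizer G A, u • B = B := fun u hu => by
      have h' : (⟨u, hu⟩ : stabilizer G A) ∈ (two G A B).subgroupOf (stabilizer G A) :=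
        h.symm ▸ Subgroup.mem_top _
      exact h'.2
    exact h2 (S.faith g h1 fun h hh => by rw [hall h hh, hall g h1])
  · obtain ⟨h1, h2⟩ := mem_inf.1 hx
    rw [Coprime.mem_conj_smul_iff, mem_subgroupOf] at h2
    have hgB : (g : G) • B ≠ B := fun e => hg ⟨g.2, e⟩
    refine Subtype.ext (S.frob x x.2 g g.2 h1.2 ?_ hgB)
    have e : ((g : G)⁻¹ * x * g) • B = B := h2.2
    rw [mul_smul, mul_smul, inv_smul_eq_iff] at e
    exact e

theorem mem_frobeniusKernel_iff {x : stabilizer G A} :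
    x ∈ frobeniusKernel ((two G A B).subgroupOf (stabilizer G A)) ↔ IsKer G A B A (x : G) := by
  rcases eq_or_ne x 1 with rfl | hx
  · exact iff_of_true Frobenius.one_mem_kernel ⟨one_smul _ _, Or.inl rfl⟩
  have hx' : (x : G) ≠ 1 := fun e => hx (Subtype.ext e)
  rw [Frobenius.mem_kernel_iff hx, IsKer, or_iff_right hx']
  refine Iff.trans ?_ (and_iff_right (mem_stabilizer_iff.1 x.2)).symm
  constructor
  · intro h Q hQ e
    obtain ⟨g, hg, rfl⟩ := adj_A_iff.1 hQ
    have hmA : g⁻¹ * (x : G) * g ∈ stabilizer G A :=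
      ((⟨g, hg⟩ : stabilizer G A)⁻¹ * x * ⟨g, hg⟩).2
    refine h ⟨g, hg⟩ ⟨hmA, ?_⟩
    show (g⁻¹ * (x : G) * g) • B = B
    rw [mul_smul, mul_smul, e, inv_smul_smul]
  · intro h g hg
    refine h ((g : G) • B) (adj_A_iff.2 ⟨g, g.2, rfl⟩) ?_
    have : ((g : G)⁻¹ * (x : G) * g) • B = B := hg.2
    rw [mul_smul, mul_smul, inv_smul_eq_iff] at this
    exact this

theorem kernel_aux : ∃ N : Subgroup (stabilizer G A), (∀ x, x ∈ N ↔ IsKer G A B A (x : G)) ∧
    N.Normal ∧ Group.IsNilpotent N ∧ N.map (stabilizer G A).subtype = ker G A B := by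
  obtain ⟨N, h1, h2, h3⟩ := Cfsg.Agent.S0042.result _ S.isFrobenius
  have hmem : ∀ x, x ∈ N ↔ IsKer G A B A (x : G) := fun x => by
    rw [← SetLike.mem_coe, h1, S.mem_frobeniusKernel_iff]
  refine ⟨N, hmem, h2, h3, le_antisymm ?_ ?_⟩
  · rintro _ ⟨x, hx, rfl⟩
    exact Subgroup.subset_closure ((hmem x).1 hx)
  · rw [ker, Subgroup.closure_le]
    intro g hg
    exact ⟨⟨g, hg.1⟩, (hmem _).2 hg, rfl⟩

theorem mem_ker {g : G} : g ∈ ker G A B ↔ IsKer G A B A g := by
  obtain ⟨N, h1, -, -, h4⟩ := S.kernel_aux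
  rw [← h4]
  constructor
  · rintro ⟨x, hx, rfl⟩; exact (h1 x).1 hx
  · exact fun hg => ⟨⟨g, hg.1⟩, (h1 _).2 hg, rfl⟩

theorem ker_le : ker G A B ≤ stabilizer G A := fun _ hg => (S.mem_ker.1 hg).1

theorem ker_nilpotent : Group.IsNilpotent (ker G A B) := by
  obtain ⟨N, -, -, h3, h4⟩ := S.kernel_aux
  rw [← h4]
  exact Group.nilpotent_of_mulEquiv
    (N.equivMapOfInjective (stabilizer G A).subtype (subtype_injective _))

theorem ker_conj {a h : G} (ha : a ∈ ker G A B) (hh : h ∈ stabilizer G A) :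
    h * a * h⁻¹ ∈ ker G A B := by
  rw [S.mem_ker] at ha ⊢
  have := (isKer_smul_iff (A := A) (B := B) (P := A) h a).2 ha
  rwa [mem_stabilizer_iff.1 hh] at this

theorem ker_inf_two {g : G} (h1 : g ∈ ker G A B) (h2 : g • B = B) : g = 1 :=
  ((S.mem_ker.1 h1).2).resolve_right fun h => h B adj_base h2

theorem nbr_A : nbr G A B A = MulAction.orbit (stabilizer G A) B := by
  ext Q
  exact adj_A_iff.trans ⟨fun ⟨h, hh, e⟩ => ⟨⟨h, hh⟩, e⟩, fun ⟨⟨h, hh⟩, e⟩ => ⟨h, hh, e⟩⟩

theorem index_two : ((two G A B).subgroupOf (stabilizer G A)).index = (nbr G A B A).ncard := by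
  have : (two G A B).subgroupOf (stabilizer G A) =
      MulAction.stabilizer (stabilizer G A) B := by
    ext x
    exact ⟨fun h => h.2, fun h => ⟨x.2, h⟩⟩
  rw [this, MulAction.index_stabilizer, S.nbr_A]

theorem card_two_subgroupOf :
    Nat.card ((two G A B).subgroupOf (stabilizer G A)) = Nat.card (two G A B) :=
  Nat.card_congr (Subgroup.subgroupOfEquivOfLe (inf_le_left : two G A B ≤ _)).toEquiv

theorem card_ker : Nat.card (ker G A B) = (nbr G A B A).ncard := by
  obtain ⟨N, h1, -, -, h4⟩ := S.kernel_aux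
  rw [← h4, Nat.card_congr (N.equivMapOfInjective _ (subtype_injective _)).toEquiv.symm,
    ← S.index_two, ← Frobenius.card_kernel S.isFrobenius]
  exact Nat.card_congr (Equiv.subtypeEquivRight fun x => by
    rw [h1]; exact S.mem_frobeniusKernel_iff.symm)

theorem card_stab :
    Nat.card (stabilizer G A) = (nbr G A B A).ncard * Nat.card (two G A B) := by
  rw [← S.index_two, ← S.card_two_subgroupOf, Subgroup.index_mul_card]

theorem mod_two :
    (nbr G A B A).ncard % Nat.card (two G A B) = 1 % Nat.card (two G A B) := by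
  rw [← S.index_two, ← S.card_two_subgroupOf]
  exact Frobenius.index_mod_card S.isFrobenius

theorem two_le_c : 2 ≤ Nat.card (two G A B) :=
  (Subgroup.one_lt_card_iff_ne_bot (two G A B)).2 S.two_ne_bot

theorem three_le_k : 3 ≤ (nbr G A B A).ncard := by
  have h1 := S.mod_two
  have hc := S.two_le_c
  have hne : ((two G A B).subgroupOf (stabilizer G A)).index ≠ 1 := fun h =>
    S.isFrobenius.2.1 (Subgroup.index_eq_one.1 h)
  have h0 : ((two G A B).subgroupOf (stabilizer G A)).index ≠ 0 :=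
    Subgroup.index_ne_zero_of_finite
  rw [S.index_two] at hne h0
  rw [Nat.one_mod_eq_one.2 (by omega)] at h1
  by_contra h
  have hk : (nbr G A B A).ncard = 2 := by omega
  rw [hk] at h1
  rcases Nat.lt_or_ge 2 (Nat.card (two G A B)) with h' | h'
  · rw [Nat.mod_eq_of_lt h'] at h1; omega
  · rw [show Nat.card (two G A B) = 2 by omega] at h1; omega

theorem coprime_k_c : Nat.Coprime (nbr G A B A).ncard (Nat.card (two G A B)) := by
  rw [Nat.Coprime, Nat.gcd_comm, Nat.gcd_rec, S.mod_two, ← Nat.gcd_rec, Nat.gcd_one_right]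

/-- `K` is regular on the neighbours of `A`. -/
theorem ker_trans (hQ : Adj G A B A Q) : ∃ a ∈ ker G A B, a • B = Q := by
  have hI : (nbr G A B A).Finite := by
    rw [S.nbr_A]; exact Set.finite_range _
  haveI := hI.to_subtype
  let f : ker G A B → nbr G A B A := fun a =>
    ⟨(a : G) • B, adj_A_iff.2 ⟨a, S.ker_le a.2, rfl⟩⟩
  have hf : Function.Injective f := fun a b e => by
    have e' : (a : G) • B = (b : G) • B := congrArg Subtype.val e
    have : (b : G)⁻¹ * a = 1 := S.ker_inf_two (mul_mem (inv_mem b.2) a.2)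
      (by rw [mul_smul, e', inv_smul_smul])
    exact Subtype.ext ((inv_mul_eq_one.1 this).symm)
  have hb := (Nat.bijective_iff_injective_and_card f).2
    ⟨hf, by rw [S.card_ker, Nat.card_coe_set_eq]⟩
  obtain ⟨a, ha⟩ := hb.2 ⟨Q, hQ⟩
  exact ⟨a, a.2, congrArg Subtype.val ha⟩

/-- `H = K C`. -/
theorem exists_ker_mul {h : G} (hh : h ∈ stabilizer G A) :
    ∃ a ∈ ker G A B, ∃ y ∈ two G A B, h = a * y := by
  obtain ⟨a, ha, e⟩ := S.ker_trans (adj_A_iff.2 ⟨h, hh, rfl⟩)
  refine ⟨a, ha, a⁻¹ * h, ⟨mul_mem ((stabilizer G A).inv_mem (S.ker_le ha)) hh, ?_⟩, by group⟩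
  show (a⁻¹ * h) • B = B
  rw [mul_smul, ← e, inv_smul_smul]

theorem fpf {a y : G} (ha : a ∈ ker G A B) (hy : y ∈ two G A B) (hy1 : y ≠ 1)
    (hc : Commute y a) : a = 1 := by
  refine S.ker_inf_two ha (S.fix_nbr_unique hy1 hy.1 (Q := a • B) (R := B) ?_ hy.2 ?_ adj_base)
  · rw [← mul_smul, hc.eq, mul_smul, hy.2]
  · exact adj_A_iff.2 ⟨a, S.ker_le ha, rfl⟩

/-- All elements of `y K` are conjugate under `K`. -/
theorem exists_conj_eq {a y : G} (ha : a ∈ ker G A B) (hy : y ∈ two G A B) (hy1 : y ≠ 1) :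
    ∃ b ∈ ker G A B, y * a = b * y * b⁻¹ := by
  let f : ker G A B → ker G A B := fun b =>
    ⟨y⁻¹ * b * y * (b : G)⁻¹, mul_mem
      (by simpa using S.ker_conj b.2 ((stabilizer G A).inv_mem hy.1)) (inv_mem b.2)⟩
  have hf : Function.Injective f := fun b b' e => by
    have e' : y⁻¹ * b * y * (b : G)⁻¹ = y⁻¹ * b' * y * (b' : G)⁻¹ := congrArg Subtype.val e
    refine Subtype.ext (inv_mul_eq_one.1 (S.fpf (mul_mem (inv_mem b.2) b'.2) hy hy1 ?_))
    show y * ((b : G)⁻¹ * b') = (b : G)⁻¹ * b' * y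
    calc y * ((b : G)⁻¹ * b') = (b : G)⁻¹ * y * (y⁻¹ * b * y * (b : G)⁻¹) * b' := by group
      _ = (b : G)⁻¹ * b' * y := by rw [e']; group
  obtain ⟨b, hb⟩ := (Finite.injective_iff_surjective.1 hf) ⟨a, ha⟩
  refine ⟨b, b.2, ?_⟩
  have : y⁻¹ * b * y * (b : G)⁻¹ = a := congrArg Subtype.val hb
  rw [← this]
  group

end Setup

end Cfsg.Agent.RankThreeFrob
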