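import Cfsg.Agent.Lib.RankThreeFrob.Fix

/-!
# Parameters
-/

set_option autoImplicit false

namespace Cfsg.Agent.RankThreeFrob

open MulAction Subgroup

variable {G X : Type*} [Group G] [MulAction G X]

/-- The length of the other non-trivial suborbit. -/
noncomputable def ll (G : Type*) {X : Type*} [Group G] [MulAction G X] (A B : X) : ℕ :=
  (far G A B).ncard

variable {A B P Q R D : X}

theorem ncard_nbr_smul (g : G) (P : X) :
    (nbr G A B (g • P)).ncard = (nbr G A B P).ncard := by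
  rw [nbr_smul, Set.ncard_image_of_injective _ (MulAction.injective g)]

namespace Setup

variable [Finite G] [FaithfulSMul G X] (S : Setup G A B)
include S

theorem ncard_nbr (P : X) : (nbr G A B P).ncard = kk G A B := by
  obtain ⟨g, rfl⟩ := S.exists_map P
  exact ncard_nbr_smul g A

theorem far_compl : far G A B = (insert A (nbr G A B A))ᶜ := by
  ext P
  simp only [RankThreeFrob.far, nbr, Set.mem_setOf_eq, Set.mem_compl_iff, Set.mem_insert_iff,
    not_or]

theorem card_X : Nat.card X = 1 + kk G A B + ll G A B := by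
  haveI := S.finite_X
  have h1 := Set.ncard_add_ncard_compl (insert A (nbr G A B A))
  rw [Set.ncard_insert_of_notMem (a := A) (s := nbr G A B A) (fun h => S.adj_ne h rfl) (Set.toFinite _), ← S.far_compl] at h1
  show Nat.card X = 1 + (nbr G A B A).ncard + (RankThreeFrob.far G A B).ncard
  omega

theorem card_G : Nat.card G = Nat.card X * (kk G A B * cc G A B) := by
  haveI := S.trans
  rw [← Perm.card_mul_card_stabilizer (G := G) A, S.card_stab]
  rfl

theorem ll_pos : 0 < ll G A B := by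
  haveI := S.finite_X
  exact (Set.ncard_pos (Set.toFinite _)).2 S.far_nonempty

theorem far_eq_orbit (hD : D ∈ far G A B) :
    far G A B = MulAction.orbit (stabilizer G A) D := by
  ext P
  constructor
  · intro hP
    obtain ⟨h, hh, e⟩ := S.far_orbit hD hP
    exact ⟨⟨h, hh⟩, e⟩
  · rintro ⟨⟨h, hh⟩, rfl⟩
    exact mem_far_smul hh hD

theorem ll_mul (hD : D ∈ far G A B) :
    ll G A B * Nat.card (two G A D) = kk G A B * cc G A B := by
  rw [kk, cc, ← S.card_stab, ll, S.far_eq_orbit hD, ← MulAction.index_stabilizer,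
    ← Subgroup.index_mul_card (MulAction.stabilizer (stabilizer G A) D)]
  congr 1
  exact Nat.card_congr
    { toFun := fun y => ⟨⟨y, y.2.1⟩, y.2.2⟩
      invFun := fun y => ⟨y.1, y.1.2, y.2⟩
      left_inv := fun y => rfl
      right_inv := fun y => rfl }

/-- Two different points never have the same neighbours. -/
theorem eq_of_nbr_eq (h : nbr G A B P = nbr G A B Q) : P = Q := by
  by_contra hne
  haveI := S.prim
  have hall : ∀ R, nbr G A B P = nbr G A B R := Perm.equivalence_trivial (G := G)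
    (r := fun a b => nbr G A B a = nbr G A B b) ⟨fun _ => rfl, fun e => e.symm, fun e e' => e.trans e'⟩
    (fun g a b e => by rw [nbr_smul, nbr_smul, e]) h hne
  have : B ∈ nbr G A B B := ((hall B).symm.trans (hall A)) ▸ (adj_base : Adj G A B A B)
  exact S.adj_ne this rfl

theorem exists_far_adj (hD : D ∈ far G A B) : ∃ P ∈ far G A B, Adj G A B D P := by
  haveI := S.finite_X
  by_contra h
  push Not at h
  refine hD.1 (S.eq_of_nbr_eq (Set.eq_of_subset_of_ncard_le (fun P hP => ?_) ?_ (Set.toFinite _)))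
  · by_contra hne
    have hPA : P ≠ A := fun e => hD.2 (S.adj_symm (e ▸ hP))
    exact h P ⟨hPA, hne⟩ hP
  · rw [S.ncard_nbr, S.ncard_nbr]

theorem eq_one_of_fix_far {a : G} (ha : a ∈ ker G A B)
    (h : ∀ P ∈ far G A B, a • P = P) : a = 1 := by
  obtain ⟨D, hD⟩ := S.far_nonempty
  obtain ⟨P, hP, hDP⟩ := S.exists_far_adj hD
  refine orderOf_eq_one_iff.1 (Nat.eq_one_of_dvd_coprimes S.coprime_k_c ?_ ?_)
  · exact S.orderOf_dvd_k (S.mem_ker.1 ha)
  · exact S.orderOf_dvd_c (h D hD) (h P hP) hDP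

/-- A point prime to which the kernel moves everything: `n ≡ 1 mod p`. -/
theorem card_mod_prime {p : ℕ} (hp : p.Prime) (hpk : p ∣ kk G A B) : Nat.card X % p = 1 := by
  haveI := S.finite_X
  haveI := Fact.mk hp
  haveI := S.ker_nilpotent
  obtain ⟨T⟩ : Nonempty (Sylow p (ker G A B)) := inferInstance
  haveI hT : (T : Subgroup (ker G A B)).Normal :=
    ((Group.isNilpotent_of_finite_tfae (G := ker G A B)).out 0 3 rfl rfl).1 S.ker_nilpotent p
      inferInstance T
  set U : Subgroup G := (T : Subgroup (ker G A B)).map (ker G A B).subtype with hU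
  have hUp : IsPGroup p U := T.2.map _
  have hmem : ∀ a ∈ ker G A B, (∃ j, a ^ p ^ j = 1) → a ∈ U := by
    rintro a ha ⟨j, hj⟩
    refine ⟨⟨a, ha⟩, ?_, rfl⟩
    haveI := Sylow.unique_of_normal T hT
    obtain ⟨i, -, hi⟩ := (Nat.dvd_prime_pow hp).1
      (orderOf_dvd_of_pow_eq_one (x := (⟨a, ha⟩ : ker G A B)) (n := p ^ j) (Subtype.ext hj))
    obtain ⟨Q, hQ⟩ := (IsPGroup.of_card (p := p) (G := zpowers (⟨a, ha⟩ : ker G A B))
      (n := i) (by rw [Nat.card_zpowers, hi])).exists_le_sylow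
    rw [Subsingleton.elim T Q]
    exact hQ (mem_zpowers _)
  obtain ⟨a0, ha0⟩ := exists_prime_orderOf_dvd_card' p (G := ker G A B) (by rwa [S.card_ker])
  have ha0' : orderOf (a0 : G) = p := by rw [orderOf_coe, ha0]
  have ha0U : (a0 : G) ∈ U := hmem a0 a0.2 ⟨1, by rw [pow_one, ← ha0', pow_orderOf_eq_one]⟩
  have ha01 : (a0 : G) ≠ 1 := fun e => hp.ne_one (by rw [← ha0', e, orderOf_one])
  have hfix : MulAction.fixedPoints U X = {A} := by
    ext P
    constructor
    · intro hP
      have hPU : ∀ u ∈ U, u • P = P := fun u hu => hP ⟨u, hu⟩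
      by_contra hne
      by_cases hI : Adj G A B A P
      · exact ha01 (S.eq_one_of_isKer_fix_nbr (S.mem_ker.1 a0.2) (hPU _ ha0U) hI)
      · refine ha01 (S.eq_one_of_fix_far a0.2 fun Q hQ => ?_)
        obtain ⟨h, hh, rfl⟩ := S.far_orbit ⟨hne, hI⟩ hQ
        have h1 : h⁻¹ * (a0 : G) * h ∈ ker G A B := by
          simpa using S.ker_conj a0.2 ((stabilizer G A).inv_mem hh)
        have h2 := hPU _ (hmem _ h1 ⟨1, by
          have e : h⁻¹ * (a0 : G) * h = MulAut.conj h⁻¹ (a0 : G) := by simp [MulAut.conj_apply]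
          rw [pow_one, ← ha0', ← (MulAut.conj h⁻¹).orderOf_eq (a0 : G), ← e, pow_orderOf_eq_one]⟩)
        rwa [mul_smul, mul_smul, inv_smul_eq_iff] at h2
    · rintro rfl ⟨u, hu⟩
      obtain ⟨a, -, rfl⟩ := hu
      exact mem_stabilizer_iff.1 (S.ker_le a.2)
  have h1 := hUp.card_modEq_card_fixedPoints (α := X)
  rw [hfix, Nat.card_coe_set_eq, Set.ncard_singleton] at h1
  rw [h1, Nat.one_mod_eq_one.2 hp.ne_one]

theorem coprime_n_k : Nat.Coprime (Nat.card X) (kk G A B) := by
  refine Nat.coprime_of_dvd' fun p hp hn hk => ?_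
  have := S.card_mod_prime hp hk
  rw [Nat.mod_eq_zero_of_dvd hn] at this
  omega

theorem ker_comm_of_even (hc : 2 ∣ cc G A B) :
    ∃ z ∈ two G A B, z ≠ 1 ∧ z * z = 1 ∧ (∀ a ∈ ker G A B, z * a * z = a⁻¹) ∧
      ∀ a ∈ ker G A B, ∀ b ∈ ker G A B, Commute a b := by
  haveI : Fact (Nat.Prime 2) := ⟨Nat.prime_two⟩
  obtain ⟨⟨z, hz⟩, hzo⟩ := exists_prime_orderOf_dvd_card' 2 (G := two G A B) hc
  rw [Subgroup.orderOf_mk] at hzo
  have hz1 : z ≠ 1 := fun e => by rw [e, orderOf_one] at hzo; omega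
  have hzz : z * z = 1 := by rw [← pow_two, ← hzo, pow_orderOf_eq_one]
  obtain ⟨h1, h2⟩ := Frobenius.even_complement_kernel S.isFrobenius
    (t := ⟨z, hz.1⟩) hz (fun e => hz1 (congrArg Subtype.val e)) (Subtype.ext hzz)
  have hk : ∀ a ∈ ker G A B, ∃ b : stabilizer G A,
      b ∈ frobeniusKernel ((two G A B).subgroupOf (stabilizer G A)) ∧ (b : G) = a :=
    fun a ha => ⟨⟨a, S.ker_le ha⟩, S.mem_frobeniusKernel_iff.2 (S.mem_ker.1 ha), rfl⟩
  refine ⟨z, hz, hz1, hzz, fun a ha => ?_, fun a ha b hb => ?_⟩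
  · obtain ⟨a, hak, rfl⟩ := hk a ha
    exact congrArg Subtype.val (h1 a hak)
  · obtain ⟨a, hak, rfl⟩ := hk a ha
    obtain ⟨b, hbk, rfl⟩ := hk b hb
    exact (h2 a hak b hbk).map (stabilizer G A).subtype

end Setup

end Cfsg.Agent.RankThreeFrob
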