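import Mathlib.GroupTheory.GroupAction.Primitive
import Mathlib.GroupTheory.Perm.Cycle.Type
import Cfsg.Agent.Lib.Perm.Basic

/-!
# Rank three groups with a Frobenius suborbit: the setting

`A` a point, `I` the orbit of `B` under the stabiliser of `A`, `J` the other non-trivial orbit.
`Adj A B` is the orbital of `(A, B)`.
-/

set_option autoImplicit false

namespace Cfsg.Agent.RankThreeFrob

open MulAction Subgroup

variable {G X : Type*} [Group G] [MulAction G X]

/-- The orbital of `(A, B)`. -/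
def Adj (G : Type*) {X : Type*} [Group G] [MulAction G X] (A B P Q : X) : Prop :=
  ∃ g : G, g • A = P ∧ g • B = Q

/-- The neighbours of `P`. -/
def nbr (G : Type*) {X : Type*} [Group G] [MulAction G X] (A B P : X) : Set X :=
  {Q | Adj G A B P Q}

/-- The non-neighbours of `A` other than `A`. -/
def far (G : Type*) {X : Type*} [Group G] [MulAction G X] (A B : X) : Set X :=
  {Q | Q ≠ A ∧ ¬ Adj G A B A Q}

/-- A primitive rank three group whose point stabiliser is faithful and Frobenius on a suborbit. -/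
structure Setup (G : Type*) {X : Type*} [Group G] [MulAction G X] (A B : X) : Prop where
  prim : IsPreprimitive G X
  three : Nat.card (orbitRel.Quotient ↥(stabilizer G A) X) = 3
  ne : B ≠ A
  even : Even (Nat.card G)
  faith : ∀ g ∈ stabilizer G A, (∀ h ∈ stabilizer G A, g • (h • B) = h • B) → g = 1
  fix : ∃ g ∈ stabilizer G A, g ≠ 1 ∧ g • B = B
  frob : ∀ g ∈ stabilizer G A, ∀ h ∈ stabilizer G A, g • B = B → g • (h • B) = h • B →
    h • B ≠ B → g = 1

variable {A B P Q R : X}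

theorem adj_smul (g : G) (h : Adj G A B P Q) : Adj G A B (g • P) (g • Q) := by
  obtain ⟨u, rfl, rfl⟩ := h
  exact ⟨g * u, mul_smul _ _ _, mul_smul _ _ _⟩

theorem adj_smul_iff (g : G) : Adj G A B (g • P) (g • Q) ↔ Adj G A B P Q :=
  ⟨fun h => by simpa using adj_smul g⁻¹ h, adj_smul g⟩

theorem adj_base : Adj G A B A B := ⟨1, one_smul _ _, one_smul _ _⟩

theorem adj_A_iff : Adj G A B A Q ↔ ∃ h ∈ stabilizer G A, h • B = Q :=
  ⟨fun ⟨g, h1, h2⟩ => ⟨g, h1, h2⟩, fun ⟨g, h1, h2⟩ => ⟨g, h1, h2⟩⟩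

theorem nbr_smul (g : G) : nbr G A B (g • P) = (g • ·) '' nbr G A B P := by
  ext Q
  refine ⟨fun h => ⟨g⁻¹ • Q, ?_, smul_inv_smul g Q⟩, ?_⟩
  · exact (adj_smul_iff g).1 (show Adj G A B (g • P) (g • g⁻¹ • Q) by rwa [smul_inv_smul])
  · rintro ⟨Q, hQ, rfl⟩; exact adj_smul g hQ

theorem mem_far_smul {h : G} (hh : h ∈ stabilizer G A) (hQ : Q ∈ far G A B) :
    h • Q ∈ far G A B := by
  refine ⟨fun e => hQ.1 ?_, fun e => hQ.2 ?_⟩
  · have := congrArg (h⁻¹ • ·) e
    simpa [inv_smul_smul, (mem_stabilizer_iff.1 ((stabilizer G A).inv_mem hh))] using this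
  · have := adj_smul h⁻¹ e
    rwa [mem_stabilizer_iff.1 ((stabilizer G A).inv_mem hh), inv_smul_smul] at this

namespace Setup

variable (S : Setup G A B)
include S

theorem trans : IsPretransitive G X := S.prim.toIsPretransitive

theorem nontrivial : Nontrivial X := ⟨⟨B, A, S.ne⟩⟩

theorem adj_ne (h : Adj G A B P Q) : P ≠ Q := by
  obtain ⟨g, rfl, rfl⟩ := h
  exact fun e => S.ne (MulAction.injective g e).symm

theorem exists_map (P : X) : ∃ g : G, g • A = P := S.trans.exists_smul_eq A P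

theorem mk_ne_mk {P Q : X} :
    (Quotient.mk (orbitRel ↥(stabilizer G A) X) P = Quotient.mk _ Q) ↔
      ∃ h ∈ stabilizer G A, h • Q = P := by
  rw [Quotient.eq, orbitRel_apply, mem_orbit_iff]
  exact ⟨fun ⟨h, e⟩ => ⟨h, h.2, e⟩, fun ⟨h, hh, e⟩ => ⟨⟨h, hh⟩, e⟩⟩

theorem far_nonempty : (far G A B).Nonempty := by
  classical
  haveI : Finite (orbitRel.Quotient ↥(stabilizer G A) X) :=
    Nat.finite_of_card_ne_zero (by rw [S.three]; omega)
  letI := Fintype.ofFinite (orbitRel.Quotient ↥(stabilizer G A) X)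
  by_contra hne
  have huniv : (Finset.univ : Finset (orbitRel.Quotient ↥(stabilizer G A) X)) ⊆
      {Quotient.mk _ A, Quotient.mk _ B} := by
    intro q _
    induction q using Quotient.ind with
    | _ P =>
      simp only [Finset.mem_insert, Finset.mem_singleton]
      by_cases hPA : P = A
      · exact Or.inl (by rw [hPA])
      · have hadj : Adj G A B A P := by
          by_contra h; exact hne ⟨P, hPA, h⟩
        exact Or.inr ((S.mk_ne_mk).2 (adj_A_iff.1 hadj))
  have h1 := Finset.card_le_card huniv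
  rw [Finset.card_univ, ← Nat.card_eq_fintype_card, S.three] at h1
  have := Finset.card_le_two (a := (Quotient.mk (orbitRel ↥(stabilizer G A) X) A))
    (b := Quotient.mk _ B)
  omega

theorem far_orbit (hP : P ∈ far G A B) (hQ : Q ∈ far G A B) :
    ∃ h ∈ stabilizer G A, h • P = Q := by
  classical
  haveI : Finite (orbitRel.Quotient ↥(stabilizer G A) X) :=
    Nat.finite_of_card_ne_zero (by rw [S.three]; omega)
  letI := Fintype.ofFinite (orbitRel.Quotient ↥(stabilizer G A) X)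
  by_contra hne
  have hA : ∀ R, R ≠ A → Quotient.mk (orbitRel ↥(stabilizer G A) X) A ≠ Quotient.mk _ R := by
    intro R hR e
    obtain ⟨h, hh, e⟩ := (S.mk_ne_mk).1 e.symm
    exact hR (e ▸ hh)
  have hB : ∀ R, R ∈ far G A B →
      Quotient.mk (orbitRel ↥(stabilizer G A) X) B ≠ Quotient.mk _ R := by
    intro R hR e
    exact hR.2 (adj_A_iff.2 ((S.mk_ne_mk).1 e.symm))
  have hPQ : Quotient.mk (orbitRel ↥(stabilizer G A) X) Q ≠ Quotient.mk _ P := fun e =>
    hne ((S.mk_ne_mk).1 e)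
  have hsub := Finset.card_le_univ
    ({Quotient.mk _ A, Quotient.mk _ B, Quotient.mk _ Q, Quotient.mk _ P} :
      Finset (orbitRel.Quotient ↥(stabilizer G A) X))
  rw [← Nat.card_eq_fintype_card, S.three, Finset.card_insert_of_notMem, Finset.card_insert_of_notMem,
    Finset.card_pair hPQ] at hsub
  · omega
  · simp only [Finset.mem_insert, Finset.mem_singleton, not_or]
    exact ⟨hB Q hQ, hB P hP⟩
  · simp only [Finset.mem_insert, Finset.mem_singleton, not_or]
    exact ⟨hA B S.ne, hA Q hQ.1, hA P hP.1⟩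

theorem exists_move [Finite G] [FaithfulSMul G X] : ∃ t : G, t • t • A = A ∧ t • A ≠ A := by
  haveI : Fact (Nat.Prime 2) := ⟨Nat.prime_two⟩
  obtain ⟨t, ht⟩ := exists_prime_orderOf_dvd_card' 2 (even_iff_two_dvd.1 S.even)
  obtain ⟨P, hP⟩ : ∃ P : X, t • P ≠ P := by
    by_contra h
    push Not at h
    have : t = 1 := FaithfulSMul.eq_of_smul_eq_smul (α := X) fun P => by rw [h P, one_smul]
    rw [this, orderOf_one] at ht
    omega
  obtain ⟨g, rfl⟩ := S.exists_map P
  refine ⟨g⁻¹ * t * g, ?_, fun e => hP ?_⟩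
  · have htt : t * t = 1 := by rw [← pow_two, ← ht, pow_orderOf_eq_one]
    rw [← mul_smul]
    have : g⁻¹ * t * g * (g⁻¹ * t * g) = g⁻¹ * (t * t) * g := by group
    rw [this, htt, mul_one, inv_mul_cancel, one_smul]
  · rw [mul_smul, mul_smul, inv_smul_eq_iff] at e
    exact e

theorem exists_swap_B [Finite G] [FaithfulSMul G X] : ∃ s : G, s • A = B ∧ s • B = A := by
  obtain ⟨t, htt, ht⟩ := S.exists_move
  by_cases hI : Adj G A B A (t • A)
  · obtain ⟨h, hh, hB⟩ := adj_A_iff.1 hI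
    have hA : h • A = A := hh
    refine ⟨h⁻¹ * t * h, ?_, ?_⟩
    · rw [mul_smul, mul_smul, hA, ← hB, inv_smul_smul]
    · rw [mul_smul, mul_smul, hB, htt]
      exact inv_smul_eq_iff.2 hA.symm
  have hJ : t • A ∈ far G A B := ⟨ht, hI⟩
  obtain ⟨g, hg⟩ := S.exists_map B
  have hne : g⁻¹ • A ≠ A := fun e => S.ne (by rw [← hg]; exact (inv_smul_eq_iff.1 e).symm)
  by_cases hI' : Adj G A B A (g⁻¹ • A)
  · obtain ⟨h, hh, hB⟩ := adj_A_iff.1 hI'
    refine ⟨g * h, by rw [mul_smul, mem_stabilizer_iff.1 hh, hg], ?_⟩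
    rw [mul_smul, hB, smul_inv_smul]
  obtain ⟨h, hh, hJ'⟩ := S.far_orbit hJ ⟨hne, hI'⟩
  exfalso
  refine hI (adj_A_iff.2 ⟨(g * h * t)⁻¹, (stabilizer G A).inv_mem ?_, ?_⟩)
  · rw [mem_stabilizer_iff, mul_smul, mul_smul, hJ', smul_inv_smul]
  · rw [inv_smul_eq_iff, mul_smul, mul_smul, htt, mem_stabilizer_iff.1 hh, hg]

theorem adj_symm [Finite G] [FaithfulSMul G X] (h : Adj G A B P Q) : Adj G A B Q P := by
  obtain ⟨g, rfl, rfl⟩ := h
  obtain ⟨s, h1, h2⟩ := S.exists_swap_B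
  exact ⟨g * s, by rw [mul_smul, h1], by rw [mul_smul, h2]⟩

theorem adj_comm [Finite G] [FaithfulSMul G X] : Adj G A B P Q ↔ Adj G A B Q P :=
  ⟨S.adj_symm, S.adj_symm⟩

theorem exists_swap_far [Finite G] [FaithfulSMul G X] (hD : Q ∈ far G A B) :
    ∃ s : G, s • A = Q ∧ s • Q = A := by
  obtain ⟨g, hg⟩ := S.exists_map Q
  have hne : g⁻¹ • A ≠ A := fun e => hD.1 (by rw [← hg]; exact (inv_smul_eq_iff.1 e).symm)
  by_cases hI : Adj G A B A (g⁻¹ • A)
  · refine absurd (S.adj_symm ?_) hD.2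
    have := adj_smul g hI
    rwa [hg, smul_inv_smul] at this
  · obtain ⟨h, hh, hQ⟩ := S.far_orbit hD ⟨hne, hI⟩
    exact ⟨g * h, by rw [mul_smul, mem_stabilizer_iff.1 hh, hg], by rw [mul_smul, hQ, smul_inv_smul]⟩

theorem trichotomy (P Q : X) :
    P = Q ∨ Adj G A B P Q ∨ (P ≠ Q ∧ ¬ Adj G A B P Q) := by
  by_cases h1 : P = Q
  · exact Or.inl h1
  · by_cases h2 : Adj G A B P Q
    · exact Or.inr (Or.inl h2)
    · exact Or.inr (Or.inr ⟨h1, h2⟩)

end Setup

end Cfsg.Agent.RankThreeFrob
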